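import Cfsg.Agent.Omega.FOne.TvwBasic
import Mathlib.Tactic.Abel
import Mathlib.Algebra.Group.Prod

-- merged: Cfsg.Agent.Omega.FOne.TvwRel
section

/-!
# Lemma TVW (bb OMEGA #15003, helper299): steps (1), (3), (4), (5)
-/

set_option autoImplicit false
set_option linter.unusedSectionVars false

namespace Cfsg.Agent.Omega.FOne.Tvw

variable {W : Type*} [AddCommGroup W] [Module (ZMod 2) W]
variable {H : Subgroup (W ≃ₗ[ZMod 2] W)} {y : W} {Θ : Set W}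

instance [Finite W] : Finite (W →ₗ[ZMod 2] ZMod 2) :=
  Finite.of_injective (fun f => (f : W → ZMod 2)) DFunLike.coe_injective

def AA (H : Subgroup (W ≃ₗ[ZMod 2] W)) (y θ : W) : Set (W →ₗ[ZMod 2] ZMod 2) := {f | ∃ d, St H y θ f d}

def BB (H : Subgroup (W ≃ₗ[ZMod 2] W)) (y θ : W) : Set (W →ₗ[ZMod 2] ZMod 2) := {f | St H y θ f 0}

def Rel (H : Subgroup (W ≃ₗ[ZMod 2] W)) (y θ θ' : W) : Prop := ∃ f d, St H y θ f d ∧ f θ' = 1

def RelB (H : Subgroup (W ≃ₗ[ZMod 2] W)) (y θ θ' : W) : Prop := ∃ f, St H y θ f 0 ∧ f θ' = 1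

theorem Hyp.mem_add (h : Hyp H y Θ) {θ : W} (hθ : θ ∈ Θ) (c : ZMod 2) : θ + c • y ∈ Θ := by
  rcases z2 c with rfl | rfl
  · rwa [zero_smul, add_zero]
  · rw [one_smul]; exact h.swap θ hθ

variable [Finite W] (h : Hyp H y Θ)
include h

theorem Hyp.ncard_AA_le {θ θ' : W} (hθ : θ ∈ Θ) (hθ' : θ' ∈ Θ) :
    (AA H y θ).ncard ≤ (AA H y θ').ncard := by
  obtain ⟨k, hk, rfl⟩ := h.trans θ hθ θ' hθ'
  refine Set.ncard_le_ncard_of_injOn (tr k) ?_ (fun _ _ _ _ e => tr_inj e) (Set.toFinite _)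
  rintro f ⟨d, s⟩
  exact ⟨_, h.conj hk s⟩

theorem Hyp.ncard_BB_le {θ θ' : W} (hθ : θ ∈ Θ) (hθ' : θ' ∈ Θ) :
    (BB H y θ).ncard ≤ (BB H y θ').ncard := by
  obtain ⟨k, hk, rfl⟩ := h.trans θ hθ θ' hθ'
  refine Set.ncard_le_ncard_of_injOn (tr k) ?_ (fun _ _ _ _ e => tr_inj e) (Set.toFinite _)
  rintro f s
  have := h.conj hk s
  rwa [tr_zero] at this

/-- **(1)** the relation is symmetric. -/
theorem Hyp.rel_symm {θ θ' : W} (hθ : θ ∈ Θ) (hθ' : θ' ∈ Θ) (r : Rel H y θ θ') : Rel H y θ' θ := by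
  obtain ⟨f, d, s, h1⟩ := r
  by_contra hcon
  have h0 : ∀ f' d', St H y θ' f' d' → f' θ = 0 := fun f' d' s' =>
    (z2 _).resolve_right fun h2 => hcon ⟨f', d', s', h2⟩
  have hsub : AA H y θ' ⊆ AA H y θ := by
    rintro f' ⟨d', s'⟩
    have c := (h.cj hθ hθ' s s').2
    rw [h1, h0 f' d' s', zero_smul, add_zero, one_smul] at c
    have hz : f' (θ' + θ + d θ' • y) = 0 := by
      rw [map_add, map_add, map_smul, h.fth hθ' s', h0 f' d' s', h.fy hθ' s']; simp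
    have c2 := st_shift (d θ') (h.addc hθ' s' c hz)
    have e : θ' + (θ' + θ + d θ' • y) + d θ' • y = θ := by
      linear_combination (norm := module) addself θ' + d θ' • addself y
    rw [e] at c2
    exact ⟨_, c2⟩
  have heq : AA H y θ' = AA H y θ :=
    Set.eq_of_subset_of_ncard_le hsub (h.ncard_AA_le hθ hθ') (Set.toFinite _)
  have h2 : f ∈ AA H y θ' := by rw [heq]; exact ⟨d, s⟩
  obtain ⟨d'', s''⟩ := h2
  have h3 := h.fth hθ' s''
  rw [h1] at h3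
  exact one_ne_zero h3

theorem Hyp.relB_symm {θ θ' : W} (hθ : θ ∈ Θ) (hθ' : θ' ∈ Θ) (r : RelB H y θ θ') : RelB H y θ' θ := by
  obtain ⟨f, s, h1⟩ := r
  by_contra hcon
  have h0 : ∀ f', St H y θ' f' 0 → f' θ = 0 := fun f' s' =>
    (z2 _).resolve_right fun h2 => hcon ⟨f', s', h2⟩
  have hsub : BB H y θ' ⊆ BB H y θ := by
    rintro f' s'
    have c := (h.cj hθ hθ' s s').2
    rw [h1, h0 f' s', zero_smul, add_zero, one_smul, LinearMap.zero_apply, LinearMap.zero_apply,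
      zero_smul, zero_smul, add_zero, add_zero] at c
    have hz : f' (θ' + θ) = 0 := by
      rw [map_add, h.fth hθ' s', h0 f' s', add_zero]
    have c2 := h.addc hθ' s' c hz
    have e : θ' + (θ' + θ) = θ := by
      linear_combination (norm := module) addself θ'
    rw [e, LinearMap.zero_apply, zero_smul, add_zero, add_zero] at c2
    exact c2
  have heq : BB H y θ' = BB H y θ :=
    Set.eq_of_subset_of_ncard_le hsub (h.ncard_BB_le hθ hθ') (Set.toFinite _)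
  have h2 : f ∈ BB H y θ' := by rw [heq]; exact s
  have h3 := h.fth hθ' h2
  rw [h1] at h3
  exact one_ne_zero h3

theorem Hyp.relB_add {θ θ' : W} (hθ : θ ∈ Θ) (r : RelB H y θ θ') : RelB H y θ (θ' + y) := by
  obtain ⟨f, s, h1⟩ := r
  exact ⟨f, s, by rw [map_add, h1, h.fy hθ s, add_zero]⟩

theorem Hyp.BB_inter {θ : W} (hθ : θ ∈ Θ) {f : W →ₗ[ZMod 2] ZMod 2} (s : St H y θ f 0)
    (s' : St H y (θ + y) f 0) : f = 0 := by
  have s1 := st_shift1 s
  have s2 := h.add (h.swap θ hθ) s1 s'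
  rw [faddself, zero_add, add_zero] at s2
  exact h.uniq s2

/-- **(3)** There is no `W`-transvection. -/
theorem Hyp.noW {θ : W} (hθ : θ ∈ Θ) {f : W →ₗ[ZMod 2] ZMod 2} (s : St H y θ f 0) : f = 0 := by
  by_contra hf
  obtain ⟨θ', hθ', h1⟩ := h.exists_one hθ s hf
  have hθy := h.swap θ hθ
  have hθy' := h.swap θ' hθ'
  have r1 : RelB H y θ θ' := ⟨f, s, h1⟩
  have r2 := h.relB_symm hθ hθ' r1
  have r3 : RelB H y (θ + y) θ' := h.relB_symm hθ' hθy (h.relB_add hθ' r2)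
  have r4 : RelB H y (θ' + y) θ := h.relB_symm hθ hθy' (h.relB_add hθ r1)
  obtain ⟨f', s', h1'⟩ := r2
  obtain ⟨g, sg, hg⟩ := r3
  obtain ⟨g', sg', hg'⟩ := r4
  have key : ∀ f g : W →ₗ[ZMod 2] ZMod 2, St H y θ f 0 → f θ' = 1 → St H y (θ + y) g 0 → g θ' = 1 →
      f + g = f' + g' := by
    intro f g s h1 sg hg
    have gy := h.fy hθy sg
    have fy := h.fy hθ s
    have f'y := h.fy hθ' s'
    have g'y := h.fy hθy' sg'
    have c1 := h.cj hθ hθ' s s'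
    have c2 := h.cj hθy hθy' sg sg'
    have c3 := h.cj hθy hθ' sg s'
    have c4 := h.cj hθ hθy' s sg'
    simp only [map_add, h1, h1', hg, hg', gy, fy, f'y, g'y, add_zero, one_smul, zero_smul,
      LinearMap.zero_apply] at c1 c2 c3 c4
    have e2 : θ' + y + (θ + y) = θ' + θ := by linear_combination (norm := module) addself y
    have e3 : θ' + (θ + y) = θ' + θ + y := by module
    have e4 : θ' + y + θ = θ' + θ + y := by module
    rw [e2] at c2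
    rw [e3] at c3
    rw [e4] at c4
    have s12 := h.add c1.1 c1.2 c2.2
    have s34 := h.add c3.1 c3.2 c4.2
    rw [add_zero] at s12 s34
    have e5 : f' + g + (g' + f) = f' + f + (g' + g) := by abel
    rw [e5] at s34
    have h5 := h.BB_inter c1.1 s12 s34
    have h6 : f + g + (f' + g') = 0 := by rw [← h5]; abel
    exact feq_of_add h6
  have kf := key f g s h1 sg hg
  have uf : ∀ k : W →ₗ[ZMod 2] ZMod 2, St H y θ k 0 → k ≠ 0 → k = f := by
    intro k sk hk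
    rcases z2 (k θ') with a | a
    · exfalso
      have s5 := h.add hθ s sk
      rw [add_zero] at s5
      have h5 := key (f + k) g s5 (by rw [LinearMap.add_apply, h1, a, add_zero]) sg hg
      apply hk
      rw [← kf] at h5
      have : f + k + g = f + g + k := by abel
      rw [this] at h5
      simpa using h5
    · have h5 := key k g sk a sg hg
      rw [← kf] at h5
      exact add_right_cancel h5
  have ug : ∀ k : W →ₗ[ZMod 2] ZMod 2, St H y (θ + y) k 0 → k ≠ 0 → k = g := by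
    intro k sk hk
    rcases z2 (k θ') with a | a
    · exfalso
      have s5 := h.add hθy sg sk
      rw [add_zero] at s5
      have h5 := key f (g + k) s h1 s5 (by rw [LinearMap.add_apply, hg, a, add_zero])
      apply hk
      rw [← kf, ← add_assoc] at h5
      simpa using h5
    · have h5 := key f k s h1 sk a
      rw [← kf] at h5
      exact add_left_cancel h5
  have ne_of_one : ∀ (k : W →ₗ[ZMod 2] ZMod 2) (w : W), k w = 1 → k ≠ 0 := by
    rintro k w hk rfl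
    exact zero_ne_one hk
  have hkill : ∀ θ₁ ∈ Θ, (f + g) θ₁ = 0 := by
    intro θ₁ hθ₁
    rw [LinearMap.add_apply]
    rcases z2 (f θ₁) with a | a <;> rcases z2 (g θ₁) with b | b
    · rw [a, b, add_zero]
    · exfalso
      have q1 := h.relB_symm hθy hθ₁ ⟨g, sg, b⟩
      have q2 := h.relB_add hθ₁ q1
      rw [add_assoc, addself, add_zero] at q2
      obtain ⟨k, sk, hk⟩ := h.relB_symm hθ₁ hθ q2
      rw [uf k sk (ne_of_one k θ₁ hk), a] at hk
      exact zero_ne_one hk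
    · exfalso
      have q1 := h.relB_symm hθ hθ₁ ⟨f, s, a⟩
      have q2 := h.relB_add hθ₁ q1
      obtain ⟨k, sk, hk⟩ := h.relB_symm hθ₁ hθy q2
      rw [ug k sk (ne_of_one k θ₁ hk), b] at hk
      exact zero_ne_one hk
    · rw [a, b]; rfl
  have sg2 := st_shift1 sg
  rw [add_assoc, addself, add_zero] at sg2
  have s6 := h.add hθ s sg2
  have h7 : f + g = 0 := by
    by_contra hne
    obtain ⟨θ₁, hθ₁, h8⟩ := h.exists_one hθ s6 hne
    rw [hkill θ₁ hθ₁] at h8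
    exact zero_ne_one h8
  have h8 : f = g := feq_of_add h7
  rw [← h8] at sg
  exact hf (h.BB_inter hθ s sg)

theorem Hyp.d_ne {θ : W} (hθ : θ ∈ Θ) {f d : W →ₗ[ZMod 2] ZMod 2} (s : St H y θ f d) (hf : f ≠ 0) :
    d ≠ 0 ∧ d ≠ f := by
  constructor
  · rintro rfl
    exact hf (h.noW hθ s)
  · rintro rfl
    have := st_shift1 s
    rw [faddself] at this
    exact hf (h.noW (h.swap θ hθ) this)

/-- **(4)** -/
theorem Hyp.key {θ θ' : W} (hθ : θ ∈ Θ) (hθ' : θ' ∈ Θ) {f d f' d' : W →ₗ[ZMod 2] ZMod 2}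
    (s : St H y θ f d) (s' : St H y θ' f' d') (h1 : f θ' = 1) (h1' : f' θ = 1) :
    d + d' = d θ' • f + d' θ • f' := by
  have c1 := h.cj hθ hθ' s s'
  have c2 := h.cj hθ' hθ s' s
  rw [h1, h1', one_smul, one_smul] at c1 c2
  have m1 := h.mem_add c1.1 (d θ')
  have s1 := st_shift (d θ') c1.2
  have s2 := st_shift (d' θ) c2.2
  have e1 : θ' + θ + d θ' • y + d θ' • y = θ + θ' := by
    linear_combination (norm := module) d θ' • addself y
  have e2 : θ + θ' + d' θ • y + d' θ • y = θ + θ' := by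
    linear_combination (norm := module) d' θ • addself y
  rw [e1] at m1 s1
  rw [e2] at s2
  have s3 := h.add m1 s1 s2
  have e3 : f' + f + (f + f') = 0 := by
    linear_combination (norm := module) faddself f + faddself f'
  rw [e3] at s3
  have h2 := h.uniq s3
  linear_combination (norm := module) h2 - d' θ • faddself f - d θ' • faddself f' - d' θ • faddself f'
    - d θ' • faddself f

/-- **(5)** -/
theorem Hyp.five {θ θ' : W} (hθ : θ ∈ Θ) (hθ' : θ' ∈ Θ) {f₁ d₁ f₂ d₂ : W →ₗ[ZMod 2] ZMod 2}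
    (s₁ : St H y θ f₁ d₁) (s₂ : St H y θ f₂ d₂) (h1 : f₁ θ' = 1) (h2 : f₂ θ' = 1) (hne : f₁ ≠ f₂) :
    d₁ + d₂ = f₁ ∨ d₁ + d₂ = f₂ := by
  obtain ⟨f', d', s', h1'⟩ := h.rel_symm hθ hθ' ⟨f₁, d₁, s₁, h1⟩
  have k1 := h.key hθ hθ' s₁ s' h1 h1'
  have k2 := h.key hθ hθ' s₂ s' h2 h1'
  have k3 : d₁ + d₂ = d₁ θ' • f₁ + d₂ θ' • f₂ := by
    linear_combination (norm := module) k1 + k2 - faddself d' + d' θ • faddself f'
  have s3 := h.add hθ s₁ s₂
  have hne' : f₁ + f₂ ≠ 0 := fun e => hne (feq_of_add e)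
  obtain ⟨n1, n2⟩ := h.d_ne hθ s3 hne'
  rcases z2 (d₁ θ') with a | a <;> rcases z2 (d₂ θ') with b | b <;> rw [a, b] at k3 <;>
    simp only [zero_smul, one_smul, add_zero, zero_add] at k3
  · exact absurd k3 n1
  · exact Or.inr k3
  · exact Or.inl k3
  · exact absurd k3 n2

/-- **(5)** at most one functional of `θ` kills `θ'`. -/
theorem Hyp.uniq_kill {θ θ' : W} (hθ : θ ∈ Θ) (hθ' : θ' ∈ Θ) (r : Rel H y θ θ')
    {g₁ e₁ g₂ e₂ : W →ₗ[ZMod 2] ZMod 2} (s₁ : St H y θ g₁ e₁) (s₂ : St H y θ g₂ e₂) (h1 : g₁ θ' = 0)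
    (h2 : g₂ θ' = 0) (n1 : g₁ ≠ 0) (n2 : g₂ ≠ 0) : g₁ = g₂ := by
  obtain ⟨f, d, s, hf⟩ := r
  by_contra hne
  have a1 := h.add hθ s s₁
  have a2 := h.add hθ s s₂
  have a3 := h.add hθ a2 s₁
  have h3 := h.five hθ hθ' s a1 hf (by rw [LinearMap.add_apply, hf, h1, add_zero])
    (fun e => n1 (by simpa using e.symm))
  have h4 := h.five hθ hθ' a2 a3 (by rw [LinearMap.add_apply, hf, h2, add_zero])
    (by rw [LinearMap.add_apply, LinearMap.add_apply, hf, h1, h2, add_zero, add_zero])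
    (fun e => n1 (by simpa using e.symm))
  have e3 : d + (d + e₁) = e₁ := by linear_combination (norm := module) faddself d
  have e4 : d + e₂ + (d + e₂ + e₁) = e₁ := by
    linear_combination (norm := module) faddself d + faddself e₂
  rw [e3] at h3
  rw [e4] at h4
  rcases h3 with h3 | h3 <;> rcases h4 with h4 | h4 <;> rw [h3] at h4
  · exact n2 (by simpa using h4.symm)
  · apply hne
    have : g₂ + g₁ = 0 := by linear_combination (norm := module) (-1 : ZMod 2) • h4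
    exact (feq_of_add this).symm
  · apply hne
    exact add_left_cancel h4
  · apply n2
    linear_combination (norm := module) (-1 : ZMod 2) • h4

end Cfsg.Agent.Omega.FOne.Tvw

end

-- merged: Cfsg.Agent.Omega.FOne.TvwTwo
section

/-!
# Lemma TVW (bb OMEGA #15003, helper299): step (6), `|Â| = 2` is impossible
-/

set_option autoImplicit false
set_option linter.unusedSectionVars false

namespace Cfsg.Agent.Omega.FOne.Tvw

variable {W : Type*} [AddCommGroup W] [Module (ZMod 2) W]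
variable {H : Subgroup (W ≃ₗ[ZMod 2] W)} {y : W} {Θ : Set W}

theorem ne_of_one {k : W →ₗ[ZMod 2] ZMod 2} {w : W} (hk : k w = 1) : k ≠ 0 := by
  rintro rfl
  exact zero_ne_one hk

/-- all nonzero functionals of `θ` are equal. -/
def Uni (H : Subgroup (W ≃ₗ[ZMod 2] W)) (y θ : W) : Prop :=
  ∀ f₁ d₁ f₂ d₂, St H y θ f₁ d₁ → St H y θ f₂ d₂ → f₁ ≠ 0 → f₂ ≠ 0 → f₁ = f₂

variable [Finite W] (h : Hyp H y Θ)
include h

theorem Hyp.uni_trans {θ θ' : W} (hθ : θ ∈ Θ) (hθ' : θ' ∈ Θ) (u : Uni H y θ) : Uni H y θ' := by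
  obtain ⟨k, hk, rfl⟩ := h.trans θ' hθ' θ hθ
  intro f₁ d₁ f₂ d₂ s₁ s₂ n₁ n₂
  exact tr_inj (u _ _ _ _ (h.conj hk s₁) (h.conj hk s₂) (tr_ne_zero n₁) (tr_ne_zero n₂))

/-- Under `Uni`: the functionals of different elements of `Θ` are symmetric. -/
theorem Hyp.uni_symm (u : ∀ θ ∈ Θ, Uni H y θ) {θ θ' : W} (hθ : θ ∈ Θ) (hθ' : θ' ∈ Θ)
    {f d f' d' : W →ₗ[ZMod 2] ZMod 2} (s : St H y θ f d) (s' : St H y θ' f' d') (hf' : f' ≠ 0)
    (h1 : f θ' = 1) : f' θ = 1 := by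
  obtain ⟨k, e, sk, hk⟩ := h.rel_symm hθ hθ' ⟨f, d, s, h1⟩
  rwa [u θ' hθ' _ _ _ _ s' sk hf' (ne_of_one hk)]

/-- Normalised lift. -/
theorem Hyp.norm {θ : W} {ρ : W} (hρ : ρ ∈ Θ) {k e : W →ₗ[ZMod 2] ZMod 2} (s : St H y ρ k e)
    (hk : k θ = 1) : ∃ ρ' ∈ Θ, (ρ' = ρ ∨ ρ' = ρ + y) ∧ ∃ e', St H y ρ' k e' ∧ e' θ = 0 := by
  rcases z2 (e θ) with a | a
  · exact ⟨ρ, hρ, Or.inl rfl, e, s, a⟩
  · exact ⟨ρ + y, h.swap ρ hρ, Or.inr rfl, e + k, st_shift1 s, by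
      rw [LinearMap.add_apply, a, hk]; rfl⟩

/-- **(6)** -/
theorem Hyp.not_uni {θ : W} (hθ : θ ∈ Θ) {f d : W →ₗ[ZMod 2] ZMod 2} (s : St H y θ f d)
    (hf : f ≠ 0) : ¬ Uni H y θ := by
  intro u0
  have u : ∀ θ' ∈ Θ, Uni H y θ' := fun θ' hθ' => h.uni_trans hθ hθ' u0
  have hfy := h.fy hθ s
  have hdy := h.dy hθ s
  have hfθ := h.fth hθ s
  have hdθ := h.dth hθ s
  -- the swap
  obtain ⟨t, ht, htθ⟩ := h.trans θ hθ (θ + y) (h.swap θ hθ)
  have st := h.conj ht s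
  rw [htθ] at st
  have st1 := st_shift1 st
  rw [add_assoc, addself, add_zero] at st1
  have e1 : tr t f = f := u0 _ _ _ _ st1 s (tr_ne_zero hf) hf
  have e2 : tr t d = d + f := by
    have h3 := h.add hθ st1 s
    rw [e1, faddself] at h3
    have h4 := h.uniq h3
    linear_combination (norm := module) h4 - faddself d - faddself f
  -- a neighbour with `d = 0`
  obtain ⟨ρ, hρ, hρ1⟩ := h.exists_one hθ s hf
  obtain ⟨α, hα, hα1, hα0⟩ : ∃ α ∈ Θ, f α = 1 ∧ d α = 0 := by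
    rcases z2 (d ρ) with a | a
    · exact ⟨ρ, hρ, hρ1, a⟩
    · refine ⟨t ρ, h.mem ρ hρ t ht, ?_, ?_⟩
      · rw [← e1, tr_ap, hρ1]
      · have h5 : (tr t d) (t ρ) = d ρ := tr_ap t d ρ
        rw [e2, LinearMap.add_apply] at h5
        have h6 : f (t ρ) = 1 := by rw [← e1, tr_ap, hρ1]
        rw [h6, a] at h5
        rcases z2 (d (t ρ)) with b | b
        · exact b
        · rw [b] at h5; exact absurd h5 (by decide)
  obtain ⟨β, hβ, hβ1, hβ0⟩ : ∃ β ∈ Θ, f β = 1 ∧ d β = 1 := by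
    refine ⟨t α, h.mem α hα t ht, ?_, ?_⟩
    · rw [← e1, tr_ap, hα1]
    · have h5 : (tr t d) (t α) = d α := tr_ap t d α
      rw [e2, LinearMap.add_apply] at h5
      have h6 : f (t α) = 1 := by rw [← e1, tr_ap, hα1]
      rw [h6, hα0] at h5
      rcases z2 (d (t α)) with b | b
      · rw [b] at h5; exact absurd h5 (by decide)
      · exact b
  -- neighbours of the first kind have the same `d`
  have first : ∀ α ∈ Θ, f α = 1 → d α = 0 → ∃ α' ∈ Θ, (α' = α ∨ α' = α + y) ∧ ∃ k,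
      St H y α' k d ∧ k θ = 1 := by
    intro α hα h1 h0
    obtain ⟨k, e, sk, hk⟩ := h.rel_symm hθ hα ⟨f, d, s, h1⟩
    obtain ⟨α', hα', hor, e', s', h0'⟩ := h.norm hα sk hk
    have hfα' : f α' = 1 := by
      rcases hor with rfl | rfl
      · exact h1
      · rw [map_add, hfy, add_zero, h1]
    have hdα' : d α' = 0 := by
      rcases hor with rfl | rfl
      · exact h0
      · rw [map_add, hdy, add_zero, h0]
    have h7 := h.key hθ hα' s s' hfα' hk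
    rw [hdα', h0', zero_smul, zero_smul, add_zero] at h7
    have h8 : e' = d := (feq_of_add h7).symm
    rw [h8] at s'
    exact ⟨α', hα', hor, k, s', hk⟩
  -- neighbours of the second kind
  obtain ⟨k₀, e₀, sk₀, hk₀⟩ := h.rel_symm hθ hβ ⟨f, d, s, hβ1⟩
  obtain ⟨ν, hν, horν, e', sν, hν0⟩ := h.norm hβ sk₀ hk₀
  have hfν : f ν = 1 := by
    rcases horν with rfl | rfl
    · exact hβ1
    · rw [map_add, hfy, add_zero, hβ1]
  have hdν : d ν = 1 := by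
    rcases horν with rfl | rfl
    · exact hβ0
    · rw [map_add, hdy, add_zero, hβ0]
  have h7 := h.key hθ hν s sν hfν hk₀
  rw [hdν, hν0, zero_smul, one_smul, add_zero] at h7
  have h8 : e' = d + f := by linear_combination (norm := module) h7 - faddself d
  rw [h8] at sν
  -- comparison
  have cmp1 : ∀ α ∈ Θ, f α = 1 → d α = 0 → ∀ k, St H y α k d → k θ = 1 → k ν = 1 → f = k + k₀ := by
    intro α hα h1 h0 k sk hk hkν
    have h9 := h.uni_symm u hα hν sk sν (ne_of_one hk₀) hkν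
    have h10 := h.key hα hν sk sν hkν h9
    rw [LinearMap.add_apply, h0, h1, hdν, zero_add, one_smul, one_smul] at h10
    linear_combination (norm := module) h10 - faddself d
  -- a neighbour of the first kind with functional `k₀`
  obtain ⟨α', hα', horα, k, sk, hk⟩ := first α hα hα1 hα0
  have hfα' : f α' = 1 := by
    rcases horα with rfl | rfl
    · exact hα1
    · rw [map_add, hfy, add_zero, hα1]
  have hdα' : d α' = 0 := by
    rcases horα with rfl | rfl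
    · exact hα0
    · rw [map_add, hdy, add_zero, hα0]
  have hky := h.fy hα' sk
  -- the third point of the line
  have c := h.cj hθ hα' s sk
  rw [hfα', hdα', zero_smul, one_smul, add_zero, hk, one_smul, hdθ, zero_smul, add_zero] at c
  have hfc : f (α' + θ) = 1 := by rw [map_add, hfα', hfθ, add_zero]
  have hdc : d (α' + θ) = 0 := by rw [map_add, hdα', hdθ, add_zero]
  have hkc : (k + f) θ = 1 := by rw [LinearMap.add_apply, hk, hfθ, add_zero]
  obtain ⟨γ, hγ, hγ1, hγ0, sγ⟩ : ∃ γ ∈ Θ, f γ = 1 ∧ d γ = 0 ∧ St H y γ k₀ d := by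
    rcases z2 (k ν) with a | a
    · refine ⟨α', hα', hfα', hdα', ?_⟩
      have h9 := cmp1 _ c.1 hfc hdc _ c.2 hkc (by rw [LinearMap.add_apply, a, hfν, zero_add])
      have h10 : k = k₀ := by
        linear_combination (norm := module) (-1 : ZMod 2) • h9 - faddself k₀
      rwa [h10] at sk
    · refine ⟨α' + θ, c.1, hfc, hdc, ?_⟩
      have h9 := cmp1 α' hα' hfα' hdα' k sk hk a
      have h10 : k + f = k₀ := by
        linear_combination (norm := module) h9 + faddself k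
      have := c.2
      rwa [h10] at this
  have hk₀ne := ne_of_one hk₀
  obtain ⟨σ, hσ, k', e'', sσ, hσ1⟩ := h.exists_move hγ sγ sν hk₀ne
    (fun e => by
      have := congrArg d e
      rw [map_add, hγ0, hdν, map_zero] at this
      exact absurd this (by decide))
    (fun e => by
      have := congrArg d e
      rw [map_add, hγ0, hdν, hdy] at this
      exact absurd this (by decide))
  have hk'ne : k' ≠ 0 := ne_of_one hσ1
  rw [map_add] at hσ1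
  rcases z2 (k' γ) with a | a <;> rcases z2 (k' ν) with b | b <;> rw [a, b] at hσ1
  · exact absurd hσ1 (by decide)
  · have h9 := h.uni_symm u hσ hν sσ sν hk₀ne b
    have h10 := h.uni_symm u hγ hσ sγ sσ hk'ne h9
    rw [a] at h10
    exact absurd h10 (by decide)
  · have h9 := h.uni_symm u hσ hγ sσ sγ hk₀ne a
    have h10 := h.uni_symm u hν hσ sν sσ hk'ne h9
    rw [b] at h10
    exact absurd h10 (by decide)
  · exact absurd hσ1 (by decide)

/-- **(6)** some nonzero functional of `θ` kills `θ'`. -/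
theorem Hyp.exists_kill {θ θ' : W} (hθ : θ ∈ Θ) (r : Rel H y θ θ') :
    ∃ g e, St H y θ g e ∧ g ≠ 0 ∧ g θ' = 0 := by
  obtain ⟨f, d, s, hf⟩ := r
  by_contra hcon
  push Not at hcon
  refine h.not_uni hθ s (ne_of_one hf) fun f₁ d₁ f₂ d₂ s₁ s₂ n₁ n₂ => ?_
  have a1 := (z2 (f₁ θ')).resolve_left (hcon f₁ d₁ s₁ n₁)
  have a2 := (z2 (f₂ θ')).resolve_left (hcon f₂ d₂ s₂ n₂)
  by_contra hne
  exact hcon _ _ (h.add hθ s₁ s₂) (fun e => hne (feq_of_add e))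
    (by rw [LinearMap.add_apply, a1, a2]; rfl)

end Cfsg.Agent.Omega.FOne.Tvw

end

-- merged: Cfsg.Agent.Omega.FOne.TvwFrame
section

/-!
# Lemma TVW (bb OMEGA #15003, helper299): step (7), the frame of `SL₃(2)`
-/

set_option autoImplicit false
set_option linter.unusedSectionVars false

namespace Cfsg.Agent.Omega.FOne.Tvw

variable {W : Type*} [AddCommGroup W] [Module (ZMod 2) W]
variable {H : Subgroup (W ≃ₗ[ZMod 2] W)} {y : W} {Θ : Set W}

theorem st_lift {θ ρ : W} {f d : W →ₗ[ZMod 2] ZMod 2} (s : St H y θ f d) (hor : ρ = θ ∨ ρ = θ + y) :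
    ∃ d', St H y ρ f d' := by
  rcases hor with rfl | rfl
  · exact ⟨d, s⟩
  · exact ⟨_, st_shift1 s⟩

theorem lift_symm {θ ρ : W} (hor : ρ = θ ∨ ρ = θ + y) : θ = ρ ∨ θ = ρ + y := by
  rcases hor with rfl | rfl
  · exact Or.inl rfl
  · right; rw [add_assoc, addself, add_zero]

theorem f_lift {θ ρ : W} {f : W →ₗ[ZMod 2] ZMod 2} (hf : f y = 0) (hor : ρ = θ ∨ ρ = θ + y) :
    f ρ = f θ := by
  rcases hor with rfl | rfl
  · rfl
  · rw [map_add, hf, add_zero]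

variable [Finite W] (h : Hyp H y Θ)
include h

theorem Hyp.uniqd {θ : W} (hθ : θ ∈ Θ) {f d d' : W →ₗ[ZMod 2] ZMod 2} (s : St H y θ f d)
    (s' : St H y θ f d') : d = d' := by
  have h1 := h.add hθ s s'
  rw [faddself] at h1
  exact feq_of_add (h.uniq h1)

/-- **(7a)** -/
theorem Hyp.delta_eq {θ θ' : W} (hθ : θ ∈ Θ) (hθ' : θ' ∈ Θ) {f d g e : W →ₗ[ZMod 2] ZMod 2}
    (s : St H y θ f d) (hf : f θ' = 1) (hd : d θ' = 0) (sg : St H y θ g e) (hg : g ≠ 0)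
    (hg' : g θ' = 0) : d = g := by
  have r : Rel H y θ θ' := ⟨f, d, s, hf⟩
  have s1 := h.add hθ s sg
  have e1 := h.five hθ hθ' s s1 hf (by rw [LinearMap.add_apply, hf, hg', add_zero])
    (fun e => hg (by simpa using e.symm))
  have e0 : d + (d + e) = e := by linear_combination (norm := module) faddself d
  rw [e0] at e1
  obtain ⟨ρ, hρ, hgρ⟩ := h.exists_one hθ sg hg
  have r2 : Rel H y θ ρ := ⟨g, e, sg, hgρ⟩
  obtain ⟨g₂, e₂, s₂, n₂, hg₂⟩ := h.exists_kill hθ r2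
  have s3 := h.add hθ sg s₂
  have e2 := h.five hθ hρ sg s3 hgρ (by rw [LinearMap.add_apply, hgρ, hg₂, add_zero])
    (fun e => n₂ (by simpa using e.symm))
  have e0' : e + (e + e₂) = e₂ := by linear_combination (norm := module) faddself e
  rw [e0'] at e2
  have h1 : g₂ θ' = 1 := by
    refine (z2 _).resolve_left fun h0 => ?_
    have := h.uniq_kill hθ hθ' r s₂ sg h0 hg' n₂ hg
    rw [this, hgρ] at hg₂
    exact one_ne_zero hg₂
  have hfne := ne_of_one hf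
  obtain ⟨n1, n2⟩ := h.d_ne hθ s hfne
  have key : d = g ∨ d = g + f := by
    by_cases h2 : g₂ + f = 0
    · have h3 : g₂ = f := feq_of_add h2
      rw [h3] at s₂ e2
      have h4 := h.uniqd hθ s s₂
      rw [h4]; exact e2
    · have h3 := h.uniq_kill hθ hθ' r (h.add hθ s₂ s) sg
        (by rw [LinearMap.add_apply, h1, hf]; rfl) hg' h2 hg
      have h4 : g₂ = f + g := by linear_combination (norm := module) h3 - faddself f
      rw [h4] at s₂ e2
      have h5 := h.uniqd hθ s1 s₂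
      -- `d + e = e₂`
      rcases e1 with a | a <;> rcases e2 with b | b <;> rw [← h5, a] at b
      · right; linear_combination (norm := module) b - faddself f
      · exfalso; apply n1
        linear_combination (norm := module) b + faddself g
      · exfalso; apply n2
        linear_combination (norm := module) b - faddself f
      · left
        linear_combination (norm := module) b
  rcases key with a | a
  · exact a
  · exfalso
    rw [a, LinearMap.add_apply, hf, hg', zero_add] at hd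
    exact one_ne_zero hd

/-- **(7b)** -/
theorem Hyp.share {θ θ' : W} (hθ : θ ∈ Θ) (hθ' : θ' ∈ Θ) (r : Rel H y θ θ')
    {g e : W →ₗ[ZMod 2] ZMod 2} (sg : St H y θ g e) (hg : g ≠ 0) (hg' : g θ' = 0) :
    ∃ e', St H y θ' g e' := by
  obtain ⟨f', d', s', hf'⟩ := h.rel_symm hθ hθ' r
  obtain ⟨f, d, s, hf⟩ := r
  obtain ⟨θ₁, hθ₁, or1, d₁, s₁, hd₁⟩ := h.norm hθ s hf
  obtain ⟨θ₂, hθ₂, or2, d₂, s₂, hd₂⟩ := h.norm hθ' s' hf'
  have hfy := h.fy hθ s
  have hfy' := h.fy hθ' s'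
  have hgy := h.fy hθ sg
  have hdy₁ := h.dy hθ₁ s₁
  have hdy₂ := h.dy hθ₂ s₂
  have a1 : f θ₂ = 1 := by rw [f_lift hfy or2, hf]
  have a2 : f' θ₁ = 1 := by rw [f_lift hfy' or1, hf']
  have a3 : d₁ θ₂ = 0 := by rw [f_lift hdy₁ or2, hd₁]
  have a4 : d₂ θ₁ = 0 := by rw [f_lift hdy₂ or1, hd₂]
  have h1 := h.key hθ₁ hθ₂ s₁ s₂ a1 a2
  rw [a3, a4, zero_smul, zero_smul, add_zero] at h1
  have h2 : d₁ = d₂ := feq_of_add h1
  obtain ⟨e₁, sg₁⟩ := st_lift sg or1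
  have h3 := h.delta_eq hθ₁ hθ₂ s₁ a1 a3 sg₁ hg (by rw [f_lift hgy or2, hg'])
  have r2 : Rel H y θ₂ θ₁ := ⟨f', d₂, s₂, a2⟩
  obtain ⟨g₂, e₂, sg₂, n₂, hg₂⟩ := h.exists_kill hθ₂ r2
  have h4 := h.delta_eq hθ₂ hθ₁ s₂ a2 a4 sg₂ n₂ hg₂
  have h5 : g₂ = g := by rw [← h4, ← h2, h3]
  rw [h5] at sg₂
  exact st_lift sg₂ (lift_symm or2)

/-- A frame of `SL₃(2)`. -/
structure Fr (H : Subgroup (W ≃ₗ[ZMod 2] W)) (y : W) (Θ : Set W) (t1 t2 t3 : W)
    (p1 p2 p3 : W →ₗ[ZMod 2] ZMod 2) : Prop where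
  m1 : t1 ∈ Θ
  m2 : t2 ∈ Θ
  m3 : t3 ∈ Θ
  a11 : p1 t1 = 1
  a12 : p1 t2 = 0
  a13 : p1 t3 = 0
  a21 : p2 t1 = 0
  a22 : p2 t2 = 1
  a23 : p2 t3 = 0
  a31 : p3 t1 = 0
  a32 : p3 t2 = 0
  a33 : p3 t3 = 1
  s12 : ∃ d, St H y t1 p2 d
  s13 : ∃ d, St H y t1 p3 d
  s21 : ∃ d, St H y t2 p1 d
  s23 : ∃ d, St H y t2 p3 d
  s31 : ∃ d, St H y t3 p1 d
  s32 : ∃ d, St H y t3 p2 d

/-- **(7c)** -/
theorem Hyp.exists_fr {θ : W} (hθ : θ ∈ Θ) {f d : W →ₗ[ZMod 2] ZMod 2} (s : St H y θ f d)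
    (hf : f ≠ 0) : ∃ t2 t3 p1 p2 p3, Fr H y Θ θ t2 t3 p1 p2 p3 := by
  obtain ⟨θ', hθ', hf'⟩ := h.exists_one hθ s hf
  have r : Rel H y θ θ' := ⟨f, d, s, hf'⟩
  obtain ⟨g, e, sg, ng, hg⟩ := h.exists_kill hθ r
  obtain ⟨ν, hν, hgν⟩ := h.exists_one hθ sg ng
  obtain ⟨e', sg'⟩ := h.share hθ hθ' r sg ng hg
  have r1 : Rel H y θ ν := ⟨g, e, sg, hgν⟩
  have r2 : Rel H y θ' ν := ⟨g, e', sg', hgν⟩
  obtain ⟨k, dk, sk, nk, hk⟩ := h.exists_kill hθ r1
  obtain ⟨k', dk', sk', nk', hk'⟩ := h.exists_kill hθ' r2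
  have sh1 := h.share hθ hν r1 sk nk hk
  have sh2 := h.share hθ' hν r2 sk' nk' hk'
  have hkθ' : k θ' = 1 := by
    refine (z2 _).resolve_left fun h0 => ?_
    have := h.uniq_kill hθ hθ' r sk sg h0 hg nk ng
    rw [this, hgν] at hk
    exact one_ne_zero hk
  have hk'θ : k' θ = 1 := by
    refine (z2 _).resolve_left fun h0 => ?_
    have := h.uniq_kill hθ' hθ (h.rel_symm hθ hθ' r) sk' sg' h0 (h.fth hθ sg) nk' ng
    rw [this, hgν] at hk'
    exact one_ne_zero hk'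
  exact ⟨θ', ν, k', k, g, hθ, hθ', hν, hk'θ, h.fth hθ' sk', hk', h.fth hθ sk, hkθ', hk,
    h.fth hθ sg, hg, hgν, ⟨_, sk⟩, ⟨_, sg⟩, ⟨_, sk'⟩, ⟨_, sg'⟩, sh2, sh1⟩

/-! ### All centres and functionals of the frame -/

omit [Finite W] in
theorem Hyp.addx {θ : W} (hθ : θ ∈ Θ) {f g : W →ₗ[ZMod 2] ZMod 2} (s : ∃ d, St H y θ f d)
    (s' : ∃ d, St H y θ g d) : ∃ d, St H y θ (f + g) d := by
  obtain ⟨d, s⟩ := s
  obtain ⟨d', s'⟩ := s'
  exact ⟨_, h.add hθ s s'⟩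

omit [Finite W] in
theorem Hyp.addcx {θ θ' : W} (hθ : θ ∈ Θ) {f : W →ₗ[ZMod 2] ZMod 2} (s : ∃ d, St H y θ f d)
    (s' : ∃ d, St H y θ' f d) (hf : f θ' = 0) : ∃ d, St H y (θ + θ') f d := by
  obtain ⟨d, s⟩ := s
  obtain ⟨d', s'⟩ := s'
  exact ⟨_, h.addc hθ s s' hf⟩

omit [Finite W] in
theorem Hyp.cjx {θ θ' : W} (hθ : θ ∈ Θ) (hθ' : θ' ∈ Θ) {f f' : W →ₗ[ZMod 2] ZMod 2}
    (s : ∃ d, St H y θ f d) (s' : ∃ d, St H y θ' f' d) (h1 : f θ' = 1) (h2 : f' θ = 1) :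
    θ + θ' ∈ Θ ∧ ∃ d, St H y (θ + θ') (f + f') d := by
  obtain ⟨d, s⟩ := s
  obtain ⟨d', s'⟩ := s'
  obtain ⟨c1, c2⟩ := h.cj hθ hθ' s s'
  rw [h1, h2, one_smul, one_smul] at c2
  rw [h1, one_smul] at c1
  have m := h.mem_add c1 (d θ')
  have s1 := st_shift (d θ') c2
  have e : θ' + θ + d θ' • y + d θ' • y = θ + θ' := by
    linear_combination (norm := module) d θ' • addself y
  rw [e] at m s1
  rw [add_comm f' f] at s1
  exact ⟨m, _, s1⟩

omit [Finite W] in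
/-- moving a centre. -/
theorem Hyp.movx {θ θ' : W} (hθ' : θ' ∈ Θ) {f : W →ₗ[ZMod 2] ZMod 2}
    (s : ∃ d, St H y θ f d) (h1 : f θ' = 1) : θ + θ' ∈ Θ := by
  obtain ⟨d, g, hg, e⟩ := s
  have m := h.mem_add (h.mem θ' hθ' g hg) (d θ')
  rw [e θ', h1, one_smul] at m
  have e : θ' + θ + d θ' • y + d θ' • y = θ + θ' := by
    linear_combination (norm := module) d θ' • addself y
  rwa [e] at m

end Cfsg.Agent.Omega.FOne.Tvw

end

-- merged: Cfsg.Agent.Omega.FOne.TvwCoord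
section

/-!
# Lemma TVW (bb OMEGA #15003, helper299): coordinates of the frame
-/

set_option autoImplicit false
set_option linter.unusedSectionVars false

namespace Cfsg.Agent.Omega.FOne.Tvw

abbrev T3 := ZMod 2 × ZMod 2 × ZMod 2

def dot (k c : T3) : ZMod 2 := k.1 * c.1 + k.2.1 * c.2.1 + k.2.2 * c.2.2

set_option synthInstance.maxSize 1000 in
set_option synthInstance.maxHeartbeats 400000 in
theorem dec1 : ∀ k b : T3, b ≠ 0 → k ≠ 0 → dot k b = 0 →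
    ∃ c f : T3, c ≠ 0 ∧ dot k c = 0 ∧ dot f c = 0 ∧ dot f b = 1 := by decide

theorem dec2 : ∀ k : T3, k ≠ 0 → ∃ c : T3, c ≠ 0 ∧ dot k c = 1 := by decide

theorem dec3 : ∀ b : T3, b ≠ 0 → ∃ k₁ k₂ c : T3, k₁ ≠ 0 ∧ k₂ ≠ 0 ∧ c ≠ 0 ∧ dot k₁ b = 0 ∧ dot k₂ b = 0 ∧
    dot k₁ c = 0 ∧ dot k₂ c = 1 := by decide

variable {W : Type*} [AddCommGroup W] [Module (ZMod 2) W]
variable {H : Subgroup (W ≃ₗ[ZMod 2] W)} {y : W} {Θ : Set W}

def tv (t1 t2 t3 : W) (c : T3) : W := c.1 • t1 + c.2.1 • t2 + c.2.2 • t3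

def pv (p1 p2 p3 : W →ₗ[ZMod 2] ZMod 2) (k : T3) : W →ₗ[ZMod 2] ZMod 2 :=
  k.1 • p1 + k.2.1 • p2 + k.2.2 • p3

theorem tv_add (t1 t2 t3 : W) (c c' : T3) : tv t1 t2 t3 (c + c') = tv t1 t2 t3 c + tv t1 t2 t3 c' := by
  simp only [tv, Prod.fst_add, Prod.snd_add]; module

theorem pv_add (p1 p2 p3 : W →ₗ[ZMod 2] ZMod 2) (c c' : T3) :
    pv p1 p2 p3 (c + c') = pv p1 p2 p3 c + pv p1 p2 p3 c' := by
  simp only [pv, Prod.fst_add, Prod.snd_add]; module

theorem tv_zero (t1 t2 t3 : W) : tv t1 t2 t3 0 = 0 := by simp [tv]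

theorem pv_zero (p1 p2 p3 : W →ₗ[ZMod 2] ZMod 2) : pv p1 p2 p3 0 = 0 := by simp [pv]

theorem pv_apply (p1 p2 p3 : W →ₗ[ZMod 2] ZMod 2) (k : T3) (w : W) :
    pv p1 p2 p3 k w = dot k (p1 w, p2 w, p3 w) := by
  simp [pv, dot]

namespace Fr

variable [Finite W] (h : Hyp H y Θ) {t1 t2 t3 : W} {p1 p2 p3 : W →ₗ[ZMod 2] ZMod 2}
  (F : Fr H y Θ t1 t2 t3 p1 p2 p3)
include h F

omit h [Finite W] in
theorem coord (c : T3) : (p1 (tv t1 t2 t3 c), p2 (tv t1 t2 t3 c), p3 (tv t1 t2 t3 c)) = c := by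
  obtain ⟨a, b, c⟩ := c
  simp [tv, F.a11, F.a12, F.a13, F.a21, F.a22, F.a23, F.a31, F.a32, F.a33]

omit h [Finite W] in
theorem pv_tv (k c : T3) : pv p1 p2 p3 k (tv t1 t2 t3 c) = dot k c := by
  rw [pv_apply, F.coord]

omit h [Finite W] in
theorem pv_inj {k k' : T3} (e : pv p1 p2 p3 k = pv p1 p2 p3 k') : k = k' := by
  by_contra hne
  have h1 : k + k' ≠ 0 := by
    intro h2
    apply hne
    have : ∀ a b : T3, a + b = 0 → a = b := by decide
    exact this _ _ h2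
  obtain ⟨c, -, hc⟩ := dec2 _ h1
  rw [← F.pv_tv, pv_add, e, faddself] at hc
  exact zero_ne_one hc

omit h [Finite W] in
theorem pv_ne {k : T3} (hk : k ≠ 0) : pv p1 p2 p3 k ≠ 0 := by
  intro e
  rw [← pv_zero p1 p2 p3] at e
  exact hk (F.pv_inj e)

omit [Finite W] in
theorem p_y (k : T3) : pv p1 p2 p3 k y = 0 := by
  obtain ⟨d, s⟩ := F.s21
  obtain ⟨d', s'⟩ := F.s12
  obtain ⟨d'', s''⟩ := F.s13
  rw [pv_apply, h.fy F.m2 s, h.fy F.m1 s', h.fy F.m1 s'']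
  simp [dot]

omit [Finite W] in
/-- **(G1)** -/
theorem mem {c : T3} (hc : c ≠ 0) : tv t1 t2 t3 c ∈ Θ := by
  have m12 := (h.cjx F.m1 F.m2 F.s12 F.s21 F.a22 F.a11).1
  have m13 := (h.cjx F.m1 F.m3 F.s13 F.s31 F.a33 F.a11).1
  have m23 := (h.cjx F.m2 F.m3 F.s23 F.s32 F.a33 F.a22).1
  have m123 := h.movx m12 F.s31 (by rw [map_add, F.a11, F.a12, add_zero])
  have e : t3 + (t1 + t2) = t1 + t2 + t3 := by abel
  rw [e] at m123
  obtain ⟨a, b, c⟩ := c
  rcases z2 a with rfl | rfl <;> rcases z2 b with rfl | rfl <;> rcases z2 c with rfl | rfl <;>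
    simp only [tv, zero_smul, one_smul, zero_add, add_zero]
  · exact absurd rfl hc
  · exact F.m3
  · exact F.m2
  · exact m23
  · exact F.m1
  · exact m13
  · exact m12
  · exact m123

omit [Finite W] in
/-- **(G2)** -/
theorem st {c k : T3} (hc : c ≠ 0) (hk : dot k c = 0) :
    ∃ d, St H y (tv t1 t2 t3 c) (pv p1 p2 p3 k) d := by
  have m12 := (h.cjx F.m1 F.m2 F.s12 F.s21 F.a22 F.a11).1
  have m13 := (h.cjx F.m1 F.m3 F.s13 F.s31 F.a33 F.a11).1
  have m23 := (h.cjx F.m2 F.m3 F.s23 F.s32 F.a33 F.a22).1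
  have x123 := h.addx F.m1 F.s12 F.s13
  have x213 := h.addx F.m2 F.s21 F.s23
  have x312 := h.addx F.m3 F.s31 F.s32
  have y123 := h.addcx F.m1 F.s13 F.s23 F.a32
  have y132 := h.addcx F.m1 F.s12 F.s32 F.a23
  have y231 := h.addcx F.m2 F.s21 F.s31 F.a13
  have z12 := (h.cjx F.m1 F.m2 F.s12 F.s21 F.a22 F.a11).2
  have z13 := (h.cjx F.m1 F.m3 F.s13 F.s31 F.a33 F.a11).2
  have z23 := (h.cjx F.m2 F.m3 F.s23 F.s32 F.a33 F.a22).2
  rw [add_comm p2 p1] at z12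
  rw [add_comm p3 p1] at z13
  rw [add_comm p3 p2] at z23
  have w12 := h.addx m12 z12 y123
  have w13 := h.addx m13 z13 y132
  have w23 := h.addx m23 y231 z23
  have e1 : p1 + p3 + p2 = p1 + p2 + p3 := by abel
  have e2 : p1 + (p2 + p3) = p1 + p2 + p3 := by abel
  rw [e1] at w13
  rw [e2] at w23
  have v12 := h.addcx m12 z12 x312 (by rw [LinearMap.add_apply, F.a13, F.a23, add_zero])
  have v13 := h.addcx m13 z13 x213 (by rw [LinearMap.add_apply, F.a12, F.a32, add_zero])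
  have v23 := h.addcx m23 z23 x123 (by rw [LinearMap.add_apply, F.a21, F.a31, add_zero])
  have e3 : t1 + t3 + t2 = t1 + t2 + t3 := by abel
  have e4 : t2 + t3 + t1 = t1 + t2 + t3 := by abel
  rw [e3] at v13
  rw [e4] at v23
  obtain ⟨a, b, c⟩ := c
  obtain ⟨p, q, r⟩ := k
  have s12 := F.s12
  have s13 := F.s13
  have s21 := F.s21
  have s23 := F.s23
  have s31 := F.s31
  have s32 := F.s32
  rcases z2 a with rfl | rfl <;> rcases z2 b with rfl | rfl <;> rcases z2 c with rfl | rfl <;>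
    rcases z2 p with rfl | rfl <;> rcases z2 q with rfl | rfl <;> rcases z2 r with rfl | rfl <;>
    simp only [tv, pv, zero_smul, one_smul, zero_add, add_zero] <;>
    first
      | exact absurd rfl hc
      | exact absurd hk (by decide)
      | exact ⟨0, st_zero⟩
      | assumption

omit h [Finite W] in
theorem tv_ne_zero {c : T3} (hc : c ≠ 0) : tv t1 t2 t3 c ≠ 0 := by
  intro e
  have h1 := F.coord c
  rw [e, map_zero, map_zero, map_zero] at h1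
  exact hc h1.symm

/-- coordinates of an element. -/
abbrev cd (p1 p2 p3 : W →ₗ[ZMod 2] ZMod 2) (w : W) : T3 := (p1 w, p2 w, p3 w)

/-- **(G3)** -/
theorem st_of {σ : W} (hσ : σ ∈ Θ) (hb : cd p1 p2 p3 σ ≠ 0) {k : T3}
    (hk : dot k (cd p1 p2 p3 σ) = 0) : ∃ d, St H y σ (pv p1 p2 p3 k) d := by
  by_cases h0 : k = 0
  · rw [h0, pv_zero]; exact ⟨0, st_zero⟩
  obtain ⟨c, f, hc, h1, h2, h3⟩ := dec1 k _ hb h0 hk
  obtain ⟨d, s⟩ := F.st h hc h2
  obtain ⟨d', s'⟩ := F.st h hc h1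
  exact h.share (F.mem h hc) hσ ⟨_, d, s, by rw [pv_apply]; exact h3⟩ s' (F.pv_ne h0)
    (by rw [pv_apply]; exact hk)

/-- **(G4)** -/
theorem eq_pv {σ : W} (hσ : σ ∈ Θ) (hb : cd p1 p2 p3 σ ≠ 0) {f d : W →ₗ[ZMod 2] ZMod 2}
    (s : St H y σ f d) : ∃ k : T3, f = pv p1 p2 p3 k ∧ dot k (cd p1 p2 p3 σ) = 0 := by
  obtain ⟨k₁, k₂, c, n1, n2, hc, a1, a2, b1, b2⟩ := dec3 _ hb
  obtain ⟨d₁, s₁⟩ := F.st_of h hσ hb a1
  obtain ⟨d₂, s₂⟩ := F.st_of h hσ hb a2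
  have r : Rel H y σ (tv t1 t2 t3 c) := ⟨_, _, s₂, by rw [F.pv_tv]; exact b2⟩
  have hτ := F.mem h hc
  have kz : (0 : T3) = 0 := rfl
  have dz : dot 0 (cd p1 p2 p3 σ) = 0 := by simp [dot]
  have uk : ∀ g e : W →ₗ[ZMod 2] ZMod 2, St H y σ g e → g (tv t1 t2 t3 c) = 0 →
      g = 0 ∨ g = pv p1 p2 p3 k₁ := by
    intro g e sg hg
    by_cases g0 : g = 0
    · exact Or.inl g0
    · exact Or.inr (h.uniq_kill hσ hτ r sg s₁ hg (by rw [F.pv_tv]; exact b1) g0 (F.pv_ne n1))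
  have dadd : ∀ a b x : T3, dot (a + b) x = dot a x + dot b x := by decide
  rcases z2 (f (tv t1 t2 t3 c)) with a | a
  · rcases uk f d s a with h1 | h1
    · exact ⟨0, by rw [h1, pv_zero], dz⟩
    · exact ⟨k₁, h1, a1⟩
  · have s3 := h.add hσ s s₂
    rcases uk _ _ s3 (by rw [LinearMap.add_apply, a, F.pv_tv, b2]; rfl) with h1 | h1
    · exact ⟨k₂, feq_of_add h1, a2⟩
    · refine ⟨k₁ + k₂, ?_, by rw [dadd, a1, a2, add_zero]⟩
      rw [pv_add, ← h1]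
      linear_combination (norm := module) (-1 : ZMod 2) • faddself (pv p1 p2 p3 k₂)

theorem cd_ne_of_rel {σ ρ : W} (hσ : σ ∈ Θ) (hb : cd p1 p2 p3 σ ≠ 0) (hρ : ρ ∈ Θ)
    (r : Rel H y ρ σ) : cd p1 p2 p3 ρ ≠ 0 := by
  obtain ⟨f, d, s, hf⟩ := h.rel_symm hρ hσ r
  obtain ⟨k, rfl, -⟩ := F.eq_pv h hσ hb s
  intro e
  rw [pv_apply] at hf
  rw [show (p1 ρ, p2 ρ, p3 ρ) = (0 : T3) from e] at hf
  simp [dot] at hf

/-- **(G5)** -/
theorem eq_tv {σ : W} (hσ : σ ∈ Θ) (hb : cd p1 p2 p3 σ ≠ 0) :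
    σ = tv t1 t2 t3 (cd p1 p2 p3 σ) ∨ σ = tv t1 t2 t3 (cd p1 p2 p3 σ) + y := by
  set b := cd p1 p2 p3 σ with hbdef
  by_contra hcon
  push Not at hcon
  have hτ := F.mem h hb
  obtain ⟨k₁, k₂, c, n1, -, -, a1, -⟩ := dec3 _ hb
  obtain ⟨d₁, s₁⟩ := F.st h hb a1
  obtain ⟨d₂, s₂⟩ := F.st_of h hσ hb a1
  obtain ⟨ρ, hρ, k', e, sρ, h1⟩ := h.exists_move hτ s₁ s₂ (F.pv_ne n1)
    (fun e => hcon.1 (eq_of_add_eq_zero' e).symm)
    (fun e => hcon.2 (by
      rw [← e]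
      linear_combination (norm := module) (-1 : ZMod 2) • addself (tv t1 t2 t3 b)))
  have hcτ : cd p1 p2 p3 (tv t1 t2 t3 b) ≠ 0 := by
    rw [show cd p1 p2 p3 (tv t1 t2 t3 b) = b from F.coord b]; exact hb
  have hρc : cd p1 p2 p3 ρ ≠ 0 := by
    rw [map_add] at h1
    rcases z2 (k' (tv t1 t2 t3 b)) with a | a
    · rw [a, zero_add] at h1
      exact F.cd_ne_of_rel h hσ hb hρ ⟨k', e, sρ, h1⟩
    · exact F.cd_ne_of_rel h hτ hcτ hρ ⟨k', e, sρ, a⟩
  obtain ⟨k, rfl, -⟩ := F.eq_pv h hρ hρc sρ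
  rw [map_add, F.pv_tv, pv_apply] at h1
  rw [show (p1 σ, p2 σ, p3 σ) = b from rfl, z2add] at h1
  exact zero_ne_one h1

/-- **(G6)** the second functional. -/
theorem d_eq {σ : W} (hσ : σ ∈ Θ) (hb : cd p1 p2 p3 σ ≠ 0) {k : T3} (hk : k ≠ 0)
    {d : W →ₗ[ZMod 2] ZMod 2} (s : St H y σ (pv p1 p2 p3 k) d) :
    ∃ k' : T3, d = pv p1 p2 p3 k' ∧ k' ≠ 0 ∧ k' ≠ k ∧ dot k' (cd p1 p2 p3 σ) = 0 := by
  have hne := F.pv_ne hk
  obtain ⟨n1, n2⟩ := h.d_ne hσ s hne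
  obtain ⟨θ', hθ', h1⟩ := h.exists_one hσ s hne
  have hdσ := h.dth hσ s
  obtain ⟨θ₁, hθ₁, or1, d₁, s₁, hd₁⟩ := h.norm hσ s h1
  have hb₁ : cd p1 p2 p3 θ₁ ≠ 0 := by
    have hy : ∀ k, pv p1 p2 p3 k y = 0 := fun k => F.p_y h k
    rcases or1 with rfl | rfl
    · exact hb
    · have e1 : p1 y = 0 := by have := hy (1, 0, 0); simpa [pv] using this
      have e2 : p2 y = 0 := by have := hy (0, 1, 0); simpa [pv] using this
      have e3 : p3 y = 0 := by have := hy (0, 0, 1); simpa [pv] using this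
      simp only [cd, map_add, e1, e2, e3, add_zero]
      exact hb
  have r : Rel H y θ₁ θ' := ⟨_, _, s₁, h1⟩
  obtain ⟨g, e, sg, ng, hg⟩ := h.exists_kill hθ₁ r
  have h2 := h.delta_eq hθ₁ hθ' s₁ h1 hd₁ sg ng hg
  obtain ⟨k₁, hk₁, -⟩ := F.eq_pv h hθ₁ hb₁ sg
  have key : ∃ k', d = pv p1 p2 p3 k' := by
    rcases or1 with rfl | rfl
    · exact ⟨k₁, by rw [h.uniqd hσ s s₁, h2, hk₁]⟩
    · have s2 := st_shift1 s₁
      rw [add_assoc, addself, add_zero] at s2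
      refine ⟨k₁ + k, ?_⟩
      rw [h.uniqd hσ s s2, pv_add, h2, hk₁]
  obtain ⟨k', hk'⟩ := key
  refine ⟨k', hk', ?_, ?_, ?_⟩
  · rintro rfl
    exact n1 (by rw [hk', pv_zero])
  · rintro rfl
    exact n2 hk'
  · rw [hk', pv_apply] at hdσ
    exact hdσ

end Fr

end Cfsg.Agent.Omega.FOne.Tvw

end

-- merged: Cfsg.Agent.Omega.FOne.TvwBlock
section

/-!
# Lemma TVW (bb OMEGA #15003, helper299): the blocks
-/

set_option autoImplicit false
set_option linter.unusedSectionVars false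

namespace Cfsg.Agent.Omega.FOne.Tvw

theorem dadd : ∀ a b x : T3, dot (a + b) x = dot a x + dot b x := by decide

theorem dadd' : ∀ a b x : T3, dot a (b + x) = dot a b + dot a x := by decide

theorem dot_zero (k : T3) : dot k 0 = 0 := by simp [dot]

theorem zero_dot (c : T3) : dot 0 c = 0 := by simp [dot]

set_option synthInstance.maxSize 1000 in
set_option synthInstance.maxHeartbeats 400000 in
theorem dec4 : ∀ b c : T3, b ≠ 0 → c ≠ 0 → b ≠ c → ∃ f : T3, dot f b = 0 ∧ dot f c = 1 := by decide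

def sm (e : ZMod 2) (c : T3) : T3 := (e * c.1, e * c.2.1, e * c.2.2)

def lin (a b c z : T3) : T3 := sm z.1 a + sm z.2.1 b + sm z.2.2 c

set_option maxRecDepth 100000 in
set_option synthInstance.maxSize 1000 in
set_option synthInstance.maxHeartbeats 400000 in
theorem dec5 : ∀ a b c : T3, lin a b c a = (1, 0, 0) → lin a b c b = (0, 1, 0) → lin a b c c = (0, 0, 1) →
    (a ≠ (1, 0, 0) ∨ b ≠ (0, 1, 0) ∨ c ≠ (0, 0, 1)) →
    ∃ k u : T3, (k ≠ 0 ∧ u ≠ 0) ∧ dot k u = 0 ∧ a = (1, 0, 0) + sm k.1 u ∧ b = (0, 1, 0) + sm k.2.1 u ∧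
      c = (0, 0, 1) + sm k.2.2 u := by decide

set_option synthInstance.maxSize 1000 in
set_option synthInstance.maxHeartbeats 400000 in
theorem dec6 : ∀ u a b : T3, (u ≠ 0 ∧ a ≠ 0 ∧ a ≠ u) → (b ≠ 0 ∧ b ≠ u ∧ a + b ≠ 0) → a + b ≠ u →
    ∃ k : T3, dot k a = 0 ∧ dot k u = 0 ∧ dot k b = 1 := by decide

set_option synthInstance.maxSize 1000 in
set_option synthInstance.maxHeartbeats 400000 in
theorem dec7 : ∀ u a k k' : T3, (u ≠ 0 ∧ a ≠ 0 ∧ a ≠ u) → (dot k a = 0 ∧ dot k u = 0) →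
    (k' ≠ 0 ∧ k' ≠ k ∧ k ≠ 0) → dot k' a = 0 → dot k' u = 1 := by decide

set_option synthInstance.maxSize 1000 in
set_option synthInstance.maxHeartbeats 400000 in
/-- two different functionals with the common kernel `⟨c⟩`. -/
theorem dec8 : ∀ c k k' a : T3, (c ≠ 0 ∧ k ≠ 0 ∧ k' ≠ 0 ∧ k ≠ k') → (dot k c = 0 ∧ dot k' c = 0) →
    (dot k a = 0 ∧ dot k' a = 0) → a = 0 ∨ a = c := by decide

set_option synthInstance.maxSize 1000 in
set_option synthInstance.maxHeartbeats 400000 in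
theorem dec9 : ∀ k k' : T3, (k ≠ 0 ∧ k' ≠ 0 ∧ k ≠ k') → ∀ e e' : ZMod 2, ∃ a : T3, dot k a = e ∧ dot k' a = e' := by
  decide

/-- a functional which is not killed by a vector: among `1, 2, 1+2` one is killed. -/
theorem dec10 : ∀ a b : ZMod 2, a = 0 ∨ b = 0 ∨ a + b = 0 := by decide

theorem dec11 : ∀ c : T3, (∀ k : T3, dot k c = 0) → c = 0 := by decide

theorem dec12 : ∀ k k' : T3, (∀ c : T3, dot k c = dot k' c) → k = k' := by decide

theorem dec13 : ∀ k : T3, k ≠ 0 → ∃ c : T3, c ≠ 0 ∧ dot k c = 0 := by decide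

theorem t3add : ∀ a b : T3, a + b = 0 → a = b := by decide

theorem t3self : ∀ a : T3, a + a = 0 := by decide

variable {W : Type*} [AddCommGroup W] [Module (ZMod 2) W]

/-- The hypotheses on `(H, y)` alone. -/
structure Base (H : Subgroup (W ≃ₗ[ZMod 2] W)) (y : W) : Prop where
  y0 : y ≠ 0
  fix : ∀ h ∈ H, h y = y
  faith : ∀ h ∈ H, (∀ w, h w = w ∨ h w = w + y) → h = 1
  core : ∀ N : Subgroup (W ≃ₗ[ZMod 2] W), N ≤ H → (∀ h ∈ H, ∀ n ∈ N, h * n * h⁻¹ ∈ N) →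
    IsPGroup 2 N → N = ⊥

/-- `g` is a transvection of `W/⟨y⟩` whose centre has swapped lifts. -/
def IsTv (H : Subgroup (W ≃ₗ[ZMod 2] W)) (y : W) (g : W ≃ₗ[ZMod 2] W) : Prop :=
  ∃ (θ : W) (f d : W →ₗ[ZMod 2] ZMod 2), θ ≠ 0 ∧ θ ≠ y ∧ f ≠ 0 ∧ (∀ w, g w = w + f w • θ + d w • y) ∧
    ∃ h ∈ H, h θ = θ + y

variable {H : Subgroup (W ≃ₗ[ZMod 2] W)} {y : W}

theorem Base.hyp (b : Base H y) {θ : W} (h0 : θ ≠ 0) (hy : θ ≠ y) (hs : ∃ h ∈ H, h θ = θ + y) :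
    Hyp H y {ρ | ∃ h ∈ H, h θ = ρ} where
  y0 := b.y0
  fix := b.fix
  faith := b.faith
  core := b.core
  th0 := by
    rintro _ ⟨h, -, rfl⟩ e
    exact h0 (by rw [← map_zero h] at e; exact h.injective e)
  thy := by
    rintro _ ⟨h, hh, rfl⟩ e
    rw [← b.fix h hh] at e
    exact hy (h.injective e)
  trans := by
    rintro _ ⟨h, hh, rfl⟩ _ ⟨k, hk, rfl⟩
    refine ⟨k * h⁻¹, H.mul_mem hk (H.inv_mem hh), ?_⟩
    rw [LinearEquiv.mul_apply, inv_ap]
  mem := by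
    rintro _ ⟨h, hh, rfl⟩ g hg
    exact ⟨g * h, H.mul_mem hg hh, rfl⟩
  swap := by
    rintro _ ⟨h, hh, rfl⟩
    obtain ⟨s, hs, e⟩ := hs
    refine ⟨h * s, H.mul_mem hh hs, ?_⟩
    rw [LinearEquiv.mul_apply, e, map_add, b.fix h hh]

theorem Hyp.base {Θ : Set W} (h : Hyp H y Θ) : Base H y := ⟨h.y0, h.fix, h.faith, h.core⟩

theorem tv_smul (t1 t2 t3 : W) (e : ZMod 2) (c : T3) : tv t1 t2 t3 (e • c) = e • tv t1 t2 t3 c := by
  simp only [tv, Prod.smul_fst, Prod.smul_snd, smul_eq_mul]; module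

/-- the submodule `{tv c + e y}` -/
def blk (y t1 t2 t3 : W) : Submodule (ZMod 2) W where
  carrier := {w | ∃ (c : T3) (e : ZMod 2), w = tv t1 t2 t3 c + e • y}
  zero_mem' := ⟨0, 0, by rw [tv_zero, zero_smul, add_zero]⟩
  add_mem' := by
    rintro _ _ ⟨c, e, rfl⟩ ⟨c', e', rfl⟩
    exact ⟨c + c', e + e', by rw [tv_add]; module⟩
  smul_mem' := by
    rintro a _ ⟨c, e, rfl⟩
    exact ⟨a • c, a * e, by rw [tv_smul]; module⟩

theorem mem_blk {y t1 t2 t3 w : W} : w ∈ blk y t1 t2 t3 ↔ ∃ (c : T3) (e : ZMod 2), w = tv t1 t2 t3 c + e • y :=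
  Iff.rfl

theorem tv_mem_blk (y t1 t2 t3 : W) (c : T3) : tv t1 t2 t3 c ∈ blk y t1 t2 t3 :=
  ⟨c, 0, by rw [zero_smul, add_zero]⟩

theorem y_mem_blk (y t1 t2 t3 : W) : y ∈ blk y t1 t2 t3 := ⟨0, 1, by rw [tv_zero, one_smul, zero_add]⟩

variable {Θ : Set W}

namespace Fr

variable [Finite W] (h : Hyp H y Θ) {t1 t2 t3 : W} {p1 p2 p3 : W →ₗ[ZMod 2] ZMod 2}
  (F : Fr H y Θ t1 t2 t3 p1 p2 p3)
include h F

omit [Finite W] in
theorem cd_y : cd p1 p2 p3 y = 0 := by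
  apply dec11
  intro k
  rw [← F.p_y h k, pv_apply]

omit h F [Finite W] in
theorem cd_add (v w : W) : cd p1 p2 p3 (v + w) = cd p1 p2 p3 v + cd p1 p2 p3 w := by
  simp [cd]

omit h F [Finite W] in
theorem cd_smul (e : ZMod 2) (w : W) : cd p1 p2 p3 (e • w) = e • cd p1 p2 p3 w := by
  simp [cd]

omit [Finite W] in
theorem cd_tv (c : T3) (e : ZMod 2) : cd p1 p2 p3 (tv t1 t2 t3 c + e • y) = c := by
  rw [cd_add, cd_smul, F.cd_y h, smul_zero, add_zero]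
  exact F.coord c

omit [Finite W] in
theorem blk_iff {w : W} : w ∈ blk y t1 t2 t3 ↔
    w = tv t1 t2 t3 (cd p1 p2 p3 w) ∨ w = tv t1 t2 t3 (cd p1 p2 p3 w) + y := by
  constructor
  · rintro ⟨c, e, rfl⟩
    rw [F.cd_tv h]
    rcases z2 e with rfl | rfl
    · left; rw [zero_smul, add_zero]
    · right; rw [one_smul]
  · rintro (e | e)
    · rw [e]; exact tv_mem_blk _ _ _ _ _
    · rw [e]; exact (blk y t1 t2 t3).add_mem (tv_mem_blk _ _ _ _ _) (y_mem_blk _ _ _ _)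

omit [Finite W] in
theorem cd_ne_zero {w : W} (hw : w ∈ blk y t1 t2 t3) (h0 : w ≠ 0) (hy : w ≠ y) : cd p1 p2 p3 w ≠ 0 := by
  intro e
  rcases (F.blk_iff h).mp hw with h1 | h1 <;> rw [e, tv_zero] at h1
  · exact h0 h1
  · exact hy (by rw [h1, zero_add])

omit [Finite W] in
theorem blk_mem {w : W} (hw : w ∈ blk y t1 t2 t3) (h0 : w ≠ 0) (hy : w ≠ y) : w ∈ Θ := by
  have hc := F.cd_ne_zero h hw h0 hy
  rcases (F.blk_iff h).mp hw with h1 | h1 <;> rw [h1]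
  · exact F.mem h hc
  · exact h.swap _ (F.mem h hc)

theorem mem_blk_of {σ : W} (hσ : σ ∈ Θ) (hb : cd p1 p2 p3 σ ≠ 0) : σ ∈ blk y t1 t2 t3 :=
  (F.blk_iff h).mpr (F.eq_tv h hσ hb)

omit [Finite W] in
/-- two elements of the block with the same coordinates. -/
theorem eq_or {v w : W} (hv : v ∈ blk y t1 t2 t3) (hw : w ∈ blk y t1 t2 t3)
    (e : cd p1 p2 p3 v = cd p1 p2 p3 w) : v = w ∨ v = w + y := by
  rcases (F.blk_iff h).mp hv with h1 | h1 <;> rcases (F.blk_iff h).mp hw with h2 | h2 <;> rw [h1, h2, e]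
  · left; rfl
  · right; rw [add_assoc, addself, add_zero]
  · right; rfl
  · left; rfl

/-- relation between two elements of the block. -/
theorem rel {u w : W} (hu : u ∈ blk y t1 t2 t3) (u0 : u ≠ 0) (uy : u ≠ y)
    (hw : w ∈ blk y t1 t2 t3) (w0 : w ≠ 0) (wy : w ≠ y) (h1 : w ≠ u) (h2 : w ≠ u + y) : Rel H y u w := by
  have cu := F.cd_ne_zero h hu u0 uy
  have cw := F.cd_ne_zero h hw w0 wy
  have hne : cd p1 p2 p3 u ≠ cd p1 p2 p3 w := by
    intro e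
    rcases F.eq_or h hw hu e.symm with a | a
    · exact h1 a
    · exact h2 a
  obtain ⟨k, k1, k2⟩ := dec4 _ _ cu cw hne
  obtain ⟨d, s⟩ := F.st_of h (F.blk_mem h hu u0 uy) cu k1
  exact ⟨_, d, s, by rw [pv_apply]; exact k2⟩

omit [Finite W] in
theorem card : Nat.card (blk y t1 t2 t3) = 16 := by
  let φ : T3 × ZMod 2 → blk y t1 t2 t3 := fun c => ⟨tv t1 t2 t3 c.1 + c.2 • y, c.1, c.2, rfl⟩
  have hφ : Function.Bijective φ := by
    constructor
    · rintro ⟨c, e⟩ ⟨c', e'⟩ hh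
      have h1 : tv t1 t2 t3 c + e • y = tv t1 t2 t3 c' + e' • y := congrArg Subtype.val hh
      have h2 := congrArg (cd p1 p2 p3) h1
      rw [F.cd_tv h, F.cd_tv h] at h2
      subst h2
      have h3 := add_left_cancel h1
      rcases z2 e with rfl | rfl <;> rcases z2 e' with rfl | rfl
      · rfl
      · exfalso; simp at h3; exact h.y0 h3.symm
      · exfalso; simp at h3; exact h.y0 h3
      · rfl
    · rintro ⟨_, c, e, rfl⟩
      exact ⟨(c, e), rfl⟩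
  rw [← Nat.card_eq_of_bijective φ hφ]
  simp

omit [Finite W] in
/-- conjugation of a frame. -/
theorem conj {g : W ≃ₗ[ZMod 2] W} (hg : g ∈ H) :
    Fr H y Θ (g t1) (g t2) (g t3) (tr g p1) (tr g p2) (tr g p3) where
  m1 := h.mem _ F.m1 g hg
  m2 := h.mem _ F.m2 g hg
  m3 := h.mem _ F.m3 g hg
  a11 := by rw [tr_ap]; exact F.a11
  a12 := by rw [tr_ap]; exact F.a12
  a13 := by rw [tr_ap]; exact F.a13
  a21 := by rw [tr_ap]; exact F.a21
  a22 := by rw [tr_ap]; exact F.a22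
  a23 := by rw [tr_ap]; exact F.a23
  a31 := by rw [tr_ap]; exact F.a31
  a32 := by rw [tr_ap]; exact F.a32
  a33 := by rw [tr_ap]; exact F.a33
  s12 := by obtain ⟨d, s⟩ := F.s12; exact ⟨_, h.conj hg s⟩
  s13 := by obtain ⟨d, s⟩ := F.s13; exact ⟨_, h.conj hg s⟩
  s21 := by obtain ⟨d, s⟩ := F.s21; exact ⟨_, h.conj hg s⟩
  s23 := by obtain ⟨d, s⟩ := F.s23; exact ⟨_, h.conj hg s⟩
  s31 := by obtain ⟨d, s⟩ := F.s31; exact ⟨_, h.conj hg s⟩
  s32 := by obtain ⟨d, s⟩ := F.s32; exact ⟨_, h.conj hg s⟩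

end Fr

/-- `X` is a block. -/
def Blk (H : Subgroup (W ≃ₗ[ZMod 2] W)) (y : W) (X : Submodule (ZMod 2) W) : Prop :=
  ∃ Θ, Hyp H y Θ ∧ ∃ (t1 t2 t3 : W) (p1 p2 p3 : W →ₗ[ZMod 2] ZMod 2), Fr H y Θ t1 t2 t3 p1 p2 p3 ∧
    X = blk y t1 t2 t3

namespace Blk

variable [Finite W] {X X' : Submodule (ZMod 2) W}

omit [Finite W] in
theorem y_mem (B : Blk H y X) : y ∈ X := by
  obtain ⟨Θ, h, t1, t2, t3, p1, p2, p3, F, rfl⟩ := B
  exact y_mem_blk _ _ _ _

omit [Finite W] in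
theorem card (B : Blk H y X) : Nat.card X = 16 := by
  obtain ⟨Θ, h, t1, t2, t3, p1, p2, p3, F, rfl⟩ := B
  exact F.card h

omit [Finite W] in
theorem map (B : Blk H y X) {g : W ≃ₗ[ZMod 2] W} (hg : g ∈ H) : Blk H y (X.map (g : W →ₗ[ZMod 2] W)) := by
  obtain ⟨Θ, h, t1, t2, t3, p1, p2, p3, F, rfl⟩ := B
  refine ⟨Θ, h, _, _, _, _, _, _, F.conj h hg, ?_⟩
  have e : ∀ (c : T3) (e : ZMod 2), g (tv t1 t2 t3 c + e • y) = tv (g t1) (g t2) (g t3) c + e • y := by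
    intro c e
    simp only [tv, map_add, map_smul, h.fix g hg]
  ext w
  constructor
  · rintro ⟨_, ⟨c, a, rfl⟩, rfl⟩
    exact ⟨c, a, e c a⟩
  · rintro ⟨c, a, rfl⟩
    exact ⟨_, ⟨c, a, rfl⟩, e c a⟩

/-- the orbit of a block through `u`. -/
theorem orbit_eq {Θ Θ' : Set W} (h : Hyp H y Θ) (h' : Hyp H y Θ') {u : W} (hu : u ∈ Θ) (hu' : u ∈ Θ') :
    Θ = Θ' := by
  ext w
  constructor
  · intro hw
    obtain ⟨g, hg, rfl⟩ := h.trans u hu w hw
    exact h'.mem u hu' g hg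
  · intro hw
    obtain ⟨g, hg, rfl⟩ := h'.trans u hu' w hw
    exact h.mem u hu g hg

theorem le_of (B : Blk H y X) (B' : Blk H y X') {u : W} (hu : u ∈ X) (hu' : u ∈ X') (u0 : u ≠ 0)
    (uy : u ≠ y) : X ≤ X' := by
  obtain ⟨Θ, h, t1, t2, t3, p1, p2, p3, F, rfl⟩ := B
  obtain ⟨Θ', h', t1', t2', t3', p1', p2', p3', F', rfl⟩ := B'
  have m := F.blk_mem h hu u0 uy
  have m' := F'.blk_mem h' hu' u0 uy
  obtain rfl := orbit_eq h h' m m'
  intro w hw
  have cu' := F'.cd_ne_zero h hu' u0 uy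
  by_cases w0 : w = 0
  · rw [w0]; exact Submodule.zero_mem _
  by_cases wy : w = y
  · rw [wy]; exact y_mem_blk _ _ _ _
  by_cases h1 : w = u
  · rw [h1]; exact hu'
  by_cases h2 : w = u + y
  · rw [h2]; exact Submodule.add_mem _ hu' (y_mem_blk _ _ _ _)
  have hwΘ := F.blk_mem h hw w0 wy
  have r := F.rel h hu u0 uy hw w0 wy h1 h2
  exact F'.mem_blk_of h hwΘ (F'.cd_ne_of_rel h m cu' hwΘ (h.rel_symm m hwΘ r))

/-- **(eq)** -/
theorem eq (B : Blk H y X) (B' : Blk H y X') {u : W} (hu : u ∈ X) (hu' : u ∈ X') (u0 : u ≠ 0)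
    (uy : u ≠ y) : X = X' :=
  le_antisymm (B.le_of B' hu hu' u0 uy) (B'.le_of B hu' hu u0 uy)

omit [Finite W] in
/-- **(swap)** -/
theorem swap (B : Blk H y X) {u : W} (hu : u ∈ X) (u0 : u ≠ 0) (uy : u ≠ y) : ∃ g ∈ H, g u = u + y := by
  obtain ⟨Θ, h, t1, t2, t3, p1, p2, p3, F, rfl⟩ := B
  have m := F.blk_mem h hu u0 uy
  exact h.trans u m _ (h.swap u m)

omit [Finite W] in
theorem base (B : Blk H y X) : Base H y := by
  obtain ⟨Θ, h, -⟩ := B
  exact h.base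

omit [Finite W] in
theorem ne_of {g : W ≃ₗ[ZMod 2] W} (b : Base H y) (hg : g ∈ H) {u : W} (u0 : u ≠ 0) (uy : u ≠ y) :
    g u ≠ 0 ∧ g u ≠ y := by
  constructor
  · intro e; rw [← map_zero g] at e; exact u0 (g.injective e)
  · intro e
    have := b.fix g hg
    rw [← this] at e
    exact uy (g.injective (by rw [e, this]))

/-- an element which maps one vector of the block into the block normalises the block. -/
theorem inv_of (B : Blk H y X) {g : W ≃ₗ[ZMod 2] W} (hg : g ∈ H) {u : W} (hu : u ∈ X) (u0 : u ≠ 0)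
    (uy : u ≠ y) (hgu : g u ∈ X) {x : W} (hx : x ∈ X) : g x ∈ X := by
  obtain ⟨n0, ny⟩ := ne_of B.base hg u0 uy
  have := (B.map hg).eq B ⟨u, hu, rfl⟩ hgu n0 ny
  rw [← this]
  exact ⟨x, hx, rfl⟩

/-- every element of `H` which is trivial on the block modulo `y` is trivial on the block. -/
theorem triv (B : Blk H y X) {g : W ≃ₗ[ZMod 2] W} (hg : g ∈ H) (ht : ∀ x ∈ X, g x = x ∨ g x = x + y)
    {x : W} (hx : x ∈ X) : g x = x := by
  obtain ⟨Θ, h, t1, t2, t3, p1, p2, p3, F, rfl⟩ := B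
  by_cases x0 : x = 0
  · rw [x0, map_zero]
  by_cases xy : x = y
  · rw [xy]; exact h.fix g hg
  have hm := F.blk_mem h hx x0 xy
  have hc := F.cd_ne_zero h hx x0 xy
  -- all functionals of the block are `g`-invariant
  have key : ∀ k : T3, k ≠ 0 → tr g (pv p1 p2 p3 k) = pv p1 p2 p3 k := by
    intro k hk
    obtain ⟨c, c0, hkc⟩ := dec13 k hk
    obtain ⟨d, s⟩ := F.st h c0 hkc
    have s' := h.conj hg s
    have hθ := F.mem h c0
    have cθ : Fr.cd p1 p2 p3 (tv t1 t2 t3 c) ≠ 0 := by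
      rw [show Fr.cd p1 p2 p3 (tv t1 t2 t3 c) = c from F.coord c]; exact c0
    have : ∃ d', St H y (tv t1 t2 t3 c) (tr g (pv p1 p2 p3 k)) d' := by
      rcases ht _ (tv_mem_blk y t1 t2 t3 c) with e | e
      · rw [e] at s'; exact ⟨_, s'⟩
      · rw [e] at s'
        exact st_lift s' (Or.inr (by rw [add_assoc, addself, add_zero]))
    obtain ⟨d', s''⟩ := this
    obtain ⟨k', hk', -⟩ := F.eq_pv h hθ cθ s''
    rw [hk']
    congr 1
    apply dec12
    intro a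
    rw [← F.pv_tv k', ← F.pv_tv k, ← hk']
    rcases ht _ (tv_mem_blk y t1 t2 t3 a) with e | e
    · conv_lhs => rw [← e]
      rw [tr_ap]
    · have e1 : tv t1 t2 t3 a = g (tv t1 t2 t3 a + y) := by
        rw [map_add, e, h.fix g hg, add_assoc, addself, add_zero]
      conv_lhs => rw [e1]
      rw [tr_ap, map_add, F.p_y h, add_zero]
  rcases ht x hx with e | e
  · exact e
  exfalso
  obtain ⟨k, -, c, k0, -, -, hk, -⟩ := dec3 _ hc
  obtain ⟨d, s⟩ := F.st_of h hm hc hk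
  obtain ⟨k', rfl, k'0, -, -⟩ := F.d_eq h hm hc k0 s
  have s' := h.conj hg s
  rw [key k k0, key k' k'0, e] at s'
  have s2 := st_shift1 s
  have := h.uniqd (h.swap _ hm) s2 s'
  have h2 : pv p1 p2 p3 k = 0 := by linear_combination (norm := module) this
  exact F.pv_ne k0 h2

end Blk

end Cfsg.Agent.Omega.FOne.Tvw

end
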